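import Mathlib

/-!
Sheaves of sets on the affine opens of a scheme.
-/

set_option autoImplicit false
set_option linter.style.haveILetI false
set_option backward.isDefEq.respectTransparency false
set_option backward.isDefEq.respectTransparency.types false
universe u
open CategoryTheory AlgebraicGeometry TopologicalSpace Opposite

namespace AffBasis13

variable {X : Scheme.{u}} (F : (X.affineOpens)ᵒᵖ ⥤ Type u)

/-- Restriction. -/
abbrev rs {U V : X.affineOpens} (h : V ≤ U) (s : F.obj (op U)) : F.obj (op V) :=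
  F.map (homOfLE h).op s

theorem rs_rs {U V W : X.affineOpens} (h : V ≤ U) (h' : W ≤ V) (s : F.obj (op U)) :
    rs F h' (rs F h s) = rs F (h'.trans h) s :=
  (ConcreteCategory.congr_hom (F.map_comp (homOfLE h).op (homOfLE h').op) s).symm

theorem rs_id {U : X.affineOpens} (h : U ≤ U) (s : F.obj (op U)) : rs F h s = s :=
  ConcreteCategory.congr_hom (F.map_id (op U)) s

/-- A basic open as an affine open. -/
def bo (U : X.affineOpens) (f : Γ(X, U.1)) : X.affineOpens := ⟨X.basicOpen f, U.2.basicOpen f⟩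

theorem bo_le (U : X.affineOpens) (f : Γ(X, U.1)) : bo U f ≤ U := X.basicOpen_le f

/-- Restriction of functions. -/
noncomputable abbrev fres {U V : X.Opens} (h : V ≤ U) : Γ(X, U) ⟶ Γ(X, V) := X.presheaf.map (homOfLE h).op

theorem basicOpen_fres {U V : X.Opens} (h : V ≤ U) (f : Γ(X, U)) :
    X.basicOpen (fres h f) = V ⊓ X.basicOpen f := Scheme.basicOpen_res X f (homOfLE h).op

/-- The empty affine open gives one section. -/
def EmptyCond : Prop :=
  ∀ U : X.affineOpens, U.1 = ⊥ → Nonempty (F.obj (op U)) ∧ Subsingleton (F.obj (op U))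

/-- Gluing for two basic opens. -/
def PairCond : Prop :=
  ∀ (U V W VW : X.affineOpens) (f g : Γ(X, U.1)),
    V.1 = X.basicOpen f → W.1 = X.basicOpen g → VW.1 = X.basicOpen (f * g) → U.1 = V.1 ⊔ W.1 →
    ∀ (hV : V ≤ U) (hW : W ≤ U) (h1 : VW ≤ V) (h2 : VW ≤ W),
      Function.Injective (fun s : F.obj (op U) => (rs F hV s, rs F hW s)) ∧
      Set.range (fun s : F.obj (op U) => (rs F hV s, rs F hW s)) = {p | rs F h1 p.1 = rs F h2 p.2}

/-- Compatible sections. -/
def Compat {ι : Type*} (V : ι → X.affineOpens) (t : ∀ i, F.obj (op (V i))) : Prop :=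
  ∀ i j (W : X.affineOpens) (h₁ : W ≤ V i) (h₂ : W ≤ V j), rs F h₁ (t i) = rs F h₂ (t j)

theorem sup_basicOpen {U : X.Opens} (g h : Γ(X, U)) (e : g + h = 1) :
    U = X.basicOpen g ⊔ X.basicOpen h := by
  refine le_antisymm (fun x hx => ?_) (sup_le (X.basicOpen_le g) (X.basicOpen_le h))
  have h1 : X.presheaf.germ U x hx g + X.presheaf.germ U x hx h = 1 := by rw [← map_add, e, map_one]
  rcases IsLocalRing.isUnit_or_isUnit_of_add_one h1 with hu | hu
  · exact Or.inl ((X.mem_basicOpen g x hx).mpr hu)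
  · exact Or.inr ((X.mem_basicOpen h x hx).mpr hu)

variable (h0 : EmptyCond F) (hp : PairCond F)

include h0 hp in
theorem glue_fin : ∀ (n : ℕ) (U : X.affineOpens) (f : Fin n → Γ(X, U.1)),
    Ideal.span (Set.range f) = ⊤ → ∀ t : ∀ i, F.obj (op (bo U (f i))), Compat F (fun i => bo U (f i)) t →
      ∃! s : F.obj (op U), ∀ i, rs F (bo_le U (f i)) s = t i := by
  intro n
  induction n with
  | zero =>
    intro U f hf t ht
    have hU : U.1 = ⊥ := by
      have h1 : (1 : Γ(X, U.1)) = 0 := by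
        have := hf.ge (Submodule.mem_top (x := (1 : Γ(X, U.1))))
        rwa [Set.range_eq_empty, Ideal.span_empty, Ideal.mem_bot] at this
      rw [← Scheme.basicOpen_of_isUnit X (isUnit_one : IsUnit (1 : Γ(X, U.1))), h1, Scheme.basicOpen_zero]
    obtain ⟨⟨s⟩, hs⟩ := h0 U hU
    exact ⟨s, fun i => i.elim0, fun s' _ => Subsingleton.elim _ _⟩
  | succ n ih =>
    intro U f hf t ht
    obtain ⟨a, ha⟩ := (Ideal.mem_span_range_iff_exists_fun).mp (hf.ge (Submodule.mem_top (x := 1)))
    rw [Fin.sum_univ_castSucc] at ha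
    set g : Γ(X, U.1) := ∑ i : Fin n, a i.castSucc * f i.castSucc with hg
    let U' := bo U g
    let f' : Fin n → Γ(X, U'.1) := fun i => fres (bo_le U g) (f i.castSucc)
    have hf' : Ideal.span (Set.range f') = ⊤ := by
      have hu : IsUnit (fres (bo_le U g) g) := RingedSpace.isUnit_res_basicOpen _ g
      refine Ideal.eq_top_of_isUnit_mem _ ?_ hu
      suffices ∀ g' : Γ(X, U.1), g' = (∑ i : Fin n, a i.castSucc * f i.castSucc) →
          fres (bo_le U g) g' ∈ Ideal.span (Set.range f') from this g hg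
      intro g' hg'
      rw [hg', map_sum]
      refine Ideal.sum_mem _ fun i _ => ?_
      rw [map_mul]
      exact Ideal.mul_mem_left _ _ (Ideal.subset_span ⟨i, rfl⟩)
    have hle : ∀ i, bo U' (f' i) ≤ bo U (f i.castSucc) := fun i => by
      show X.basicOpen (f' i) ≤ X.basicOpen (f i.castSucc)
      rw [basicOpen_fres]
      exact inf_le_right
    obtain ⟨s', hs', hs'u⟩ := ih U' f' hf' (fun i => rs F (hle i) (t i.castSucc)) (fun i j W h₁ h₂ => by
      rw [rs_rs, rs_rs]
      exact ht i.castSucc j.castSucc W _ _)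
    set l : Γ(X, U.1) := f (Fin.last n) with hl
    let W := bo U l
    let VW := bo U (g * l)
    have h1 : VW ≤ U' := by
      show X.basicOpen (g * l) ≤ X.basicOpen g
      rw [Scheme.basicOpen_mul]; exact inf_le_left
    have h2 : VW ≤ W := by
      show X.basicOpen (g * l) ≤ X.basicOpen l
      rw [Scheme.basicOpen_mul]; exact inf_le_right
    have hUeq : U.1 = U'.1 ⊔ W.1 := by
      refine le_antisymm ((sup_basicOpen g (a (Fin.last n) * l) ha).le.trans (sup_le_sup_left ?_ _))
        (sup_le (bo_le U g) (bo_le U l))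
      rw [Scheme.basicOpen_mul]; exact inf_le_right
    obtain ⟨hinj, hrange⟩ := hp U U' W VW g l rfl rfl rfl hUeq (bo_le U g) (bo_le U l) h1 h2
    have hagree : rs F h1 s' = rs F h2 (t (Fin.last n)) := by
      let f'' : Fin n → Γ(X, VW.1) := fun i => fres h1 (f' i)
      have hf'' : Ideal.span (Set.range f'') = ⊤ := by
        have := congrArg (Ideal.map (fres h1).hom) hf'
        rw [Ideal.map_span, Ideal.map_top, ← Set.range_comp] at this
        exact this
      have hle' : ∀ i, bo VW (f'' i) ≤ bo U' (f' i) := fun i => by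
        show X.basicOpen (f'' i) ≤ X.basicOpen (f' i)
        rw [basicOpen_fres]
        exact inf_le_right
      have hx := ih VW f'' hf'' (fun i => rs F ((hle' i).trans (hle i)) (t i.castSucc)) (fun i j W h₁ h₂ => by
        rw [rs_rs, rs_rs]
        exact ht i.castSucc j.castSucc W _ _)
      refine hx.unique (fun i => ?_) (fun i => ?_)
      · rw [← rs_rs F (hle i) (hle' i), ← hs' i, rs_rs, rs_rs]
      · rw [rs_rs]
        exact ht (Fin.last n) i.castSucc (bo VW (f'' i)) _ _
    obtain ⟨s, hs⟩ : (s', t (Fin.last n)) ∈ Set.range fun s : F.obj (op U) =>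
        (rs F (bo_le U g) s, rs F (bo_le U l) s) := hrange.symm ▸ hagree
    simp only [Prod.mk.injEq] at hs
    refine ⟨s, fun i => ?_, fun s₂ hs₂ => hinj (Prod.ext ?_ ?_)⟩
    · induction i using Fin.lastCases with
      | last => exact hs.2
      | cast i =>
        let Ui := bo U (f i.castSucc)
        let g' : Γ(X, Ui.1) := fres (bo_le U (f i.castSucc)) g
        let l' : Γ(X, Ui.1) := fres (bo_le U (f i.castSucc)) l
        have hUi : Ui.1 = (bo Ui g').1 ⊔ (bo Ui l').1 := by
          show Ui.1 = X.basicOpen g' ⊔ X.basicOpen l'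
          rw [basicOpen_fres, basicOpen_fres, ← inf_sup_left]
          exact (inf_eq_left.mpr (le_trans (bo_le U (f i.castSucc) : Ui.1 ≤ U.1) hUeq.le)).symm
        refine (hp Ui (bo Ui g') (bo Ui l') (bo Ui (g' * l')) g' l' rfl rfl rfl hUi (bo_le _ _) (bo_le _ _)
          (by show X.basicOpen (g' * l') ≤ X.basicOpen g'; rw [Scheme.basicOpen_mul]; exact inf_le_left)
          (by show X.basicOpen (g' * l') ≤ X.basicOpen l'; rw [Scheme.basicOpen_mul]; exact inf_le_right)).1
          (Prod.ext ?_ ?_)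
        · have hle2 : bo Ui g' ≤ bo U' (f' i) := by
            show X.basicOpen g' ≤ X.basicOpen (f' i)
            rw [basicOpen_fres, basicOpen_fres]
            exact le_inf inf_le_right inf_le_left
          simp only [rs_rs]
          rw [← rs_rs F (bo_le U g) (hle2.trans (bo_le U' (f' i))), hs.1,
            ← rs_rs F (bo_le U' (f' i)) hle2, hs' i, rs_rs]
        · have hle3 : bo Ui l' ≤ W := by
            show X.basicOpen l' ≤ X.basicOpen l
            rw [basicOpen_fres]
            exact inf_le_right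
          simp only [rs_rs]
          rw [← rs_rs F (bo_le U l) hle3, hs.2]
          exact ht (Fin.last n) i.castSucc (bo Ui l') _ _
    · dsimp only
      rw [hs.1]
      refine hs'u _ fun i => ?_
      rw [← hs₂ i.castSucc, rs_rs, rs_rs]
    · dsimp only
      rw [hs.2]
      exact hs₂ (Fin.last n)

include h0 hp in
theorem glue (U : X.affineOpens) {ι : Type u} (V : ι → X.affineOpens) (hle : ∀ i, V i ≤ U)
    (hcov : ∀ x ∈ U.1, ∃ i, x ∈ (V i).1) (t : ∀ i, F.obj (op (V i))) (ht : Compat F V t) :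
    ∃! s : F.obj (op U), ∀ i, rs F (hle i) s = t i := by
  classical
  have hb : ∀ x : U.1, ∃ (f : Γ(X, U.1)) (i : ι), X.basicOpen f ≤ (V i).1 ∧ x.1 ∈ X.basicOpen f := fun x => by
    obtain ⟨i, hi⟩ := hcov x.1 x.2
    obtain ⟨f, hf, hxf⟩ := U.2.exists_basicOpen_le ⟨x.1, hi⟩ x.2
    exact ⟨f, i, hf, hxf⟩
  choose f c hfc hxf using hb
  have hspan : Ideal.span (Set.range f) = ⊤ := by
    rw [← U.2.self_le_iSup_basicOpen_iff]
    exact fun x hx => Opens.mem_iSup.mpr ⟨⟨_, ⟨x, hx⟩, rfl⟩, hxf ⟨x, hx⟩⟩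
  obtain ⟨S, hS, hS'⟩ := (Ideal.span_eq_top_iff_finite _).mp hspan
  let e := S.equivFin
  have hmem : ∀ j : Fin S.card, ∃ x, f x = (e.symm j).1 := fun j => hS (e.symm j).2
  choose x hx using hmem
  let φ : Fin S.card → Γ(X, U.1) := fun j => f (x j)
  have hφ : Ideal.span (Set.range φ) = ⊤ := by
    refine top_le_iff.mp (hS'.symm.le.trans (Ideal.span_mono fun a ha => ⟨e ⟨a, ha⟩, ?_⟩))
    show f (x (e ⟨a, ha⟩)) = a
    rw [hx, Equiv.symm_apply_apply]
  have hleφ : ∀ j, bo U (φ j) ≤ V (c (x j)) := fun j => hfc (x j)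
  obtain ⟨s, hs, hsu⟩ := glue_fin F h0 hp S.card U φ hφ (fun j => rs F (hleφ j) (t (c (x j))))
    (fun i j W h₁ h₂ => by rw [rs_rs, rs_rs]; exact ht _ _ W _ _)
  refine ⟨s, fun i => ?_, fun s₂ hs₂ => hsu s₂ fun j => ?_⟩
  · let ψ : Fin S.card → Γ(X, (V i).1) := fun j => fres (hle i) (φ j)
    have hψ : Ideal.span (Set.range ψ) = ⊤ := by
      have := congrArg (Ideal.map (fres (hle i)).hom) hφ
      rw [Ideal.map_span, Ideal.map_top, ← Set.range_comp] at this
      exact this
    have hle4 : ∀ j, bo (V i) (ψ j) ≤ bo U (φ j) := fun j => by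
      show X.basicOpen (ψ j) ≤ X.basicOpen (φ j)
      rw [basicOpen_fres]
      exact inf_le_right
    refine (glue_fin F h0 hp S.card (V i) ψ hψ
      (fun j => rs F ((hle4 j).trans (hleφ j)) (t (c (x j))))
      (fun i j W h₁ h₂ => by rw [rs_rs, rs_rs]; exact ht _ _ W _ _)).unique (fun j => ?_) (fun j => ?_)
    · rw [← rs_rs F (hleφ j) (hle4 j), ← hs j, rs_rs, rs_rs]
    · exact ht i (c (x j)) (bo (V i) (ψ j)) _ _
  · rw [← hs₂ (c (x j)), rs_rs]

/-- The sections over an open: compatible families on the affine opens inside. -/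
def Ext (W : X.Opens) : Type u :=
  { s : ∀ U : X.affineOpens, U.1 ≤ W → F.obj (op U) //
    ∀ (U U' : X.affineOpens) (h : U' ≤ U) (hW : U.1 ≤ W), rs F h (s U hW) = s U' (le_trans h hW) }

/-- The extended presheaf. -/
def extPresheaf : TopCat.Presheaf (Type u) X.carrier where
  obj W := Ext F W.unop
  map {A B} i := TypeCat.ofHom fun s => (⟨fun U hU => s.1 U (hU.trans i.unop.le),
    fun U U' h hW => s.2 U U' h _⟩ : Ext F B.unop)
  map_id _ := rfl
  map_comp _ _ := rfl

/-- The extension restricts to `F`. -/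
def extIso :
    (Monotone.functor (f := fun U : X.affineOpens => (U : X.Opens)) (fun _ _ h => h)).op ⋙ extPresheaf F ≅ F :=
  NatIso.ofComponents (fun U =>
    { hom := TypeCat.ofHom fun s : Ext F U.unop.1 => s.1 U.unop le_rfl
      inv := TypeCat.ofHom fun a => (⟨fun V hV => rs F hV a, fun V V' h hW => rs_rs F hW h a⟩ : Ext F U.unop.1)
      hom_inv_id := by
        ext s
        exact Subtype.ext (funext fun V => funext fun hV => s.2 U.unop V hV le_rfl)
      inv_hom_id := by
        ext a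
        exact rs_id F le_rfl a })
    (fun {A B} i => by
      ext s
      exact (s.2 A.unop B.unop i.unop.le le_rfl).symm)

include h0 hp in
theorem ext_isSheaf : (extPresheaf F).IsSheaf := by
  rw [TopCat.Presheaf.isSheaf_iff_isSheafUniqueGluing_types]
  intro ι W sf hsf
  have hsf' : ∀ i j (U : X.affineOpens) (hi : U.1 ≤ W i) (hj : U.1 ≤ W j), (sf i).1 U hi = (sf j).1 U hj :=
    fun i j U hi hj => congrFun (congrFun (congrArg Subtype.val (hsf i j)) U) (le_inf hi hj)
  have key : ∀ (U : X.affineOpens) (hU : U.1 ≤ iSup W),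
      ∃! s : F.obj (op U), ∀ p : { p : ι × X.affineOpens // p.2 ≤ U ∧ p.2.1 ≤ W p.1 },
        rs F p.2.1 s = (sf p.1.1).1 p.1.2 p.2.2 := by
    intro U hU
    refine glue F h0 hp U (fun p : { p : ι × X.affineOpens // p.2 ≤ U ∧ p.2.1 ≤ W p.1 } => p.1.2)
      (fun p => p.2.1) (fun x hx => ?_) _ (fun p q V h₁ h₂ => ?_)
    · obtain ⟨i, hi⟩ := Opens.mem_iSup.mp (hU hx)
      obtain ⟨f, hf, hxf⟩ := U.2.exists_basicOpen_le ⟨x, hi⟩ hx
      exact ⟨⟨(i, bo U f), bo_le U f, hf⟩, hxf⟩
    · rw [(sf p.1.1).2, (sf q.1.1).2]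
      exact hsf' _ _ _ _ _
  choose S hS hSu using key
  refine ⟨(⟨S, fun U U' h hW => hSu U' (le_trans h hW) _ fun p => ?_⟩ : Ext F (iSup W)), fun i => ?_,
    fun s hs => ?_⟩
  · rw [rs_rs]
    exact hS U hW ⟨p.1, p.2.1.trans h, p.2.2⟩
  · refine Subtype.ext (funext fun U => funext fun hU => ?_)
    exact ((rs_id F le_rfl _).symm).trans (hS U (hU.trans (le_iSup W i)) ⟨(i, U), le_rfl, hU⟩)
  · refine Subtype.ext (funext fun U => funext fun hU => ?_)
    refine hSu U hU _ fun p => ?_
    rw [s.2]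
    exact congrFun (congrFun (congrArg Subtype.val (hs p.1.1)) p.1.2) p.2.2

end AffBasis13
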